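import Cfsg.Agent.Mrg.Omega.VP
import Cfsg.Agent.Mrg.Omega.NO3S.NotFF.Basic

section


/-!
# THEOREM K0: the bridge to the abstract FF theorem, part 1

* `abs_of_irr` : a minimal parabolic `X` acting (through `π : X →* Xb`) faithfully and irreducibly on the elementary
  abelian 2-group `V`, on which `O²(Xb)` acts nontrivially, is in the situation `FFBr.Abs`;
* `cact` : the action of the subgroup `X ≤ N(N) ∩ N(Y)` on `Y / N` (`Y` abelian), `CX` its image, `cpr` the
  projection.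
-/

set_option autoImplicit false

namespace Cfsg.Agent.Omega.NO3b.K0

open Subgroup Cfsg Cfsg.Agent.ZN Cfsg.Agent.ZN.ChoiceBase Cfsg.Agent.ZN.ChoiceSit
open Cfsg.Agent.MinSimple.MinParabolic (IsMinPar IsMin sup_eq_top_or_inf_le)
open Cfsg.Agent.MinSimple.VModule (oddGen oddGen_le mem_oddGen le_normalizer_oddGen oddGen_le_of_sup)
open scoped commutatorElement

section abs

variable {X Xb V : Type*} [Group X] [Group Xb] [Group V] [MulDistribMulAction Xb V]

/-- a 2-group has nontrivial fixed points -/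
theorem exists_fix [Finite V] (sq : ∀ v : V, v * v = 1) (hV : Nontrivial V) {P : Subgroup Xb} (hP : IsPGroup 2 P) :
    ∃ v : V, v ≠ 1 ∧ ∀ t ∈ P, t • v = v := by
  have hfact : Fact (Nat.Prime 2) := ⟨Nat.prime_two⟩
  have hVp : IsPGroup 2 V := fun v => ⟨1, by rw [pow_one, pow_two, sq]⟩
  have h2 : 2 ∣ Nat.card V := by
    obtain ⟨n, hn⟩ := IsPGroup.iff_card.1 hVp
    rcases Nat.eq_zero_or_pos n with h0 | h0
    · rw [h0, pow_zero] at hn
      have := Finite.one_lt_card_iff_nontrivial.2 hV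
      omega
    · rw [hn]; exact dvd_pow_self 2 h0.ne'
  obtain ⟨b, hb, hb1⟩ := hP.exists_fixed_point_of_prime_dvd_card_of_fixed_point V h2
    (a := (1 : V)) (fun t => smul_one (t : Xb))
  exact ⟨b, fun h => hb1 h.symm, fun t ht => hb ⟨t, ht⟩⟩

theorem abs_of_irr [Finite X] [Finite V] (π : X →* Xb) (hπ : Function.Surjective π)
    (faith : ∀ x : Xb, (∀ v : V, x • v = v) → x = 1) (T : Sylow 2 X) (M : Subgroup X)
    (hM : IsMin (T : Subgroup X) M) (comm : ∀ v w : V, v * w = w * v) (sq : ∀ v : V, v * v = 1)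
    (irr : ∀ W : Subgroup V, (∀ x : Xb, ∀ w ∈ W, x • w ∈ W) → W = ⊥ ∨ W = ⊤) (ho : FFBr.odd Xb V ≠ ⊤) :
    FFBr.Abs Xb V (T.mapSurjective hπ) (M.map π) := by
  have hfact : Fact (Nat.Prime 2) := ⟨Nat.prime_two⟩
  have hXb : Finite Xb := Finite.of_surjective π hπ
  have hV : Nontrivial V := by
    by_contra hcon
    rw [not_nontrivial_iff_subsingleton] at hcon
    apply ho
    rw [eq_top_iff]
    intro v _ x _
    exact Subsingleton.elim _ _
  have hker : π.ker ⊔ (T : Subgroup X) ≠ ⊤ := by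
    intro h1
    have h2 : (T : Subgroup X).map π = ⊤ := by
      have h3 := congrArg (Subgroup.map π) h1
      rw [Subgroup.map_sup, map_top_of_surjective _ hπ, (map_eq_bot_iff (f := π) π.ker).2 le_rfl, bot_sup_eq] at h3
      exact h3
    have h3 : IsPGroup 2 (⊤ : Subgroup Xb) := by
      rw [← h2]; exact T.isPGroup'.map π
    apply ho
    rw [eq_top_iff]
    intro v _ x hx
    obtain ⟨n, hn⟩ := h3 ⟨x, mem_top x⟩
    have hn' : x ^ 2 ^ n = 1 := by simpa using congrArg Subtype.val hn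
    have h4 := orderOf_dvd_of_pow_eq_one hn'
    have h5 : orderOf x = 1 := by
      have h6 : (orderOf x).Coprime (2 ^ n) := Nat.Coprime.pow_right n (Nat.coprime_two_right.2 hx)
      exact Nat.Coprime.eq_one_of_dvd h6 h4
    rw [orderOf_eq_one_iff.1 h5, one_smul]
  have hkM : π.ker ≤ M := le_sup_left.trans (hM.le_of _ le_sup_right hker)
  have hTM : (T : Subgroup X) ≤ M := le_sup_right.trans (hM.le_of _ le_sup_right hker)
  have hMc : (M.map π).comap π = M := by
    rw [comap_map_eq, sup_eq_left]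
    exact hkM
  refine
    { comm := comm
      sq := sq
      faith := faith
      core := ?_
      TM := by
        rw [Sylow.coe_mapSurjective]
        exact map_mono hTM
      Mne := ?_
      max := ?_
      gen := ?_
      nfix := ?_ }
  · intro N hN hN2
    obtain ⟨v, hv1, hv⟩ := exists_fix sq hV hN2
    have h1 := irr (ClassTwoFusion.Quad.cv V (N : Set Xb)) (fun x w hw a ha => by
      have h2 : (x⁻¹ * a * x) • w = w := hw _ (by
        have := hN.conj_mem a ha x⁻¹
        rwa [inv_inv] at this)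
      have h3 : a • x • w = x • ((x⁻¹ * a * x) • w) := by
        rw [← mul_smul, ← mul_smul]
        congr 1
        group
      rw [h3, h2])
    rcases h1 with h1 | h1
    · exfalso
      apply hv1
      have h2 : v ∈ ClassTwoFusion.Quad.cv V (N : Set Xb) := hv
      rw [h1] at h2
      exact mem_bot.1 h2
    · rw [eq_bot_iff]
      intro x hx
      rw [mem_bot]
      apply faith
      intro w
      have h2 : w ∈ ClassTwoFusion.Quad.cv V (N : Set Xb) := by rw [h1]; exact mem_top w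
      exact h2 x hx
  · intro h5
    apply hM.ne_top
    rw [← hMc, h5, comap_top]
  · intro K hK
    rw [Sylow.coe_mapSurjective, map_le_iff_le_comap] at hK
    by_cases hK1 : K.comap π = ⊤
    · right
      rw [← map_comap_eq_self_of_surjective hπ K, hK1, map_top_of_surjective _ hπ]
    · left
      have h5 := hM.le_of _ hK hK1
      rw [← map_comap_eq_self_of_surjective hπ K]
      exact map_mono h5
  · intro W hW
    obtain ⟨v, hv1, hv⟩ := exists_fix sq hV (T.mapSurjective hπ).isPGroup'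
    have h1 := irr (closure {w | ∃ x : Xb, w = x • v}) (fun x w hw => by
      refine closure_induction (p := fun w _ => x • w ∈ closure {w | ∃ x : Xb, w = x • v}) ?_ ?_ ?_ ?_ hw
      · rintro _ ⟨y, rfl⟩
        exact subset_closure ⟨x * y, by rw [mul_smul]⟩
      · rw [smul_one]; exact one_mem _
      · intro a b _ _ ha hb
        rw [smul_mul']
        exact mul_mem ha hb
      · intro a _ ha
        rw [smul_inv']
        exact inv_mem ha)
    have h2 : v ∈ closure {w | ∃ x : Xb, w = x • v} := subset_closure ⟨1, (one_smul _ _).symm⟩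
    have h3 : closure {w | ∃ x : Xb, w = x • v} ≤ W := by
      rw [closure_le]
      rintro _ ⟨x, rfl⟩
      exact hW v hv x
    rcases h1 with h1 | h1
    · rw [h1] at h2
      exact absurd (mem_bot.1 h2) hv1
    · rw [h1, top_le_iff] at h3
      exact h3
  · obtain ⟨v, hv1, hv⟩ := exists_fix sq hV (T.mapSurjective hπ).isPGroup'
    refine ⟨v, hv, ?_⟩
    by_contra hcon
    push Not at hcon
    have h1 := irr (ClassTwoFusion.Quad.cv V (Set.univ : Set Xb)) (fun x w hw a _ => by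
      rw [hw x (Set.mem_univ x)]
      exact hw a (Set.mem_univ a))
    rcases h1 with h1 | h1
    · have h2 : v ∈ ClassTwoFusion.Quad.cv V (Set.univ : Set Xb) := fun a _ => hcon a
      rw [h1] at h2
      exact hv1 (mem_bot.1 h2)
    · apply ho
      rw [eq_top_iff]
      intro w _ x _
      have h2 : w ∈ ClassTwoFusion.Quad.cv V (Set.univ : Set Xb) := by rw [h1]; exact mem_top w
      exact h2 x (Set.mem_univ x)

end abs

/-! ### The action on `Y / N` -/

section quot

variable {G : Type*} [Group G] {X N Y : Subgroup G}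

/-- the action of `X` on `Y` -/
def yact (hY : X ≤ normalizer (Y : Set G)) : X →* MulAut Y := Y.normalizerMonoidHom.comp (inclusion hY)

theorem coe_yact (hY : X ≤ normalizer (Y : Set G)) (x : X) (y : Y) :
    ((yact hY x y : Y) : G) = x * y * (x : G)⁻¹ := rfl

theorem map_yact (hN : X ≤ normalizer (N : Set G)) (hY : X ≤ normalizer (Y : Set G)) (x : X) :
    (N.subgroupOf Y).map ((yact hY x : Y ≃* Y) : Y →* Y) = N.subgroupOf Y := by
  apply le_antisymm
  · rintro _ ⟨y, hy, rfl⟩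
    exact mem_subgroupOf.2 (conj_mem' hN x.2 (mem_subgroupOf.1 hy))
  · intro y hy
    refine ⟨yact hY x⁻¹ y, mem_subgroupOf.2 (conj_mem' hN (x⁻¹).2 (mem_subgroupOf.1 hy)), ?_⟩
    show (yact hY x * yact hY x⁻¹) y = y
    rw [← map_mul, mul_inv_cancel, map_one]
    rfl

variable [hn : (N.subgroupOf Y).Normal]

/-- the action of `X` on `Y / N` -/
def cact (hN : X ≤ normalizer (N : Set G)) (hY : X ≤ normalizer (Y : Set G)) : X →* MulAut (Y ⧸ N.subgroupOf Y) where
  toFun x := QuotientGroup.congr (N.subgroupOf Y) (N.subgroupOf Y) (yact hY x) (map_yact hN hY x)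
  map_one' := by
    apply MulEquiv.ext
    intro v
    obtain ⟨y, rfl⟩ := QuotientGroup.mk_surjective v
    rw [QuotientGroup.congr_mk, map_one]
    rfl
  map_mul' x x' := by
    apply MulEquiv.ext
    intro v
    obtain ⟨y, rfl⟩ := QuotientGroup.mk_surjective v
    rw [MulAut.mul_apply, QuotientGroup.congr_mk, QuotientGroup.congr_mk, QuotientGroup.congr_mk, map_mul]
    rfl

theorem cact_mk (hN : X ≤ normalizer (N : Set G)) (hY : X ≤ normalizer (Y : Set G)) (x : X) (y : Y) :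
    cact hN hY x (y : Y ⧸ N.subgroupOf Y) = ((yact hY x y : Y) : Y ⧸ N.subgroupOf Y) := rfl

/-- the group induced by `X` on `Y / N` -/
abbrev CX (hN : X ≤ normalizer (N : Set G)) (hY : X ≤ normalizer (Y : Set G)) :
    Subgroup (MulAut (Y ⧸ N.subgroupOf Y)) := (cact hN hY).range

/-- the projection -/
def cpr (hN : X ≤ normalizer (N : Set G)) (hY : X ≤ normalizer (Y : Set G)) : X →* CX hN hY :=
  (cact hN hY).rangeRestrict

theorem cpr_surjective (hN : X ≤ normalizer (N : Set G)) (hY : X ≤ normalizer (Y : Set G)) :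
    Function.Surjective (cpr hN hY) := (cact hN hY).rangeRestrict_surjective

theorem cpr_smul (hN : X ≤ normalizer (N : Set G)) (hY : X ≤ normalizer (Y : Set G)) (x : X) (y : Y) :
    cpr hN hY x • (y : Y ⧸ N.subgroupOf Y) = ((yact hY x y : Y) : Y ⧸ N.subgroupOf Y) := rfl

/-- `CX` acts faithfully -/
theorem cfaith (hN : X ≤ normalizer (N : Set G)) (hY : X ≤ normalizer (Y : Set G)) (x : CX hN hY)
    (hx : ∀ v : Y ⧸ N.subgroupOf Y, x • v = v) : x = 1 := by
  apply Subtype.ext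
  apply MulEquiv.ext
  exact hx

theorem cpr_smul_eq_iff (hc : Y ≤ centralizer (Y : Set G)) (hN : X ≤ normalizer (N : Set G))
    (hY : X ≤ normalizer (Y : Set G)) {x : X} {y : Y} :
    cpr hN hY x • (y : Y ⧸ N.subgroupOf Y) = y ↔ ⁅(y : G), (x : G)⁆ ∈ N := by
  rw [cpr_smul, QuotientGroup.eq, mem_subgroupOf, coe_mul, coe_inv, coe_yact]
  have h1 : (x : G) * y * (x : G)⁻¹ ∈ Y := conj_mem' hY x.2 y.2
  have h2 : ((x : G) * y * (x : G)⁻¹)⁻¹ * y = ⁅(y : G), (x : G)⁆ := by
    rw [← mem_centralizer_iff.1 (hc (inv_mem h1)) _ y.2, commutatorElement_def]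
    group
  rw [h2]

theorem cpr_eq_one (hc : Y ≤ centralizer (Y : Set G)) (hN : X ≤ normalizer (N : Set G))
    (hY : X ≤ normalizer (Y : Set G)) {x : X} :
    cpr hN hY x = 1 ↔ ∀ y ∈ Y, ⁅y, (x : G)⁆ ∈ N := by
  constructor
  · intro h1 y hy
    exact (cpr_smul_eq_iff hc hN hY (y := ⟨y, hy⟩)).1 (by rw [h1, one_smul])
  · intro h1
    apply cfaith
    intro v
    obtain ⟨y, rfl⟩ := QuotientGroup.mk_surjective v
    exact (cpr_smul_eq_iff hc hN hY).2 (h1 y y.2)

/-- `Y / N` is a chief factor: irreducibility -/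
theorem cirr (hN : X ≤ normalizer (N : Set G)) (hY : X ≤ normalizer (Y : Set G)) (hNY : N ≤ Y)
    (chief : ∀ K : Subgroup G, N ≤ K → K ≤ Y → X ≤ normalizer (K : Set G) → K = N ∨ K = Y)
    (W : Subgroup (Y ⧸ N.subgroupOf Y)) (hW : ∀ x : CX hN hY, ∀ w ∈ W, x • w ∈ W) : W = ⊥ ∨ W = ⊤ := by
  set K : Subgroup G := (W.comap (QuotientGroup.mk' (N.subgroupOf Y))).map Y.subtype with hK
  have hmem : ∀ y : Y, (y : G) ∈ K ↔ (y : Y ⧸ N.subgroupOf Y) ∈ W := by
    intro y
    constructor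
    · rintro ⟨y', hy', hyy⟩
      have : y' = y := Subtype.ext hyy
      rw [← this]
      exact hy'
    · intro hy
      exact ⟨y, hy, rfl⟩
  have hKY : K ≤ Y := map_subtype_le _
  have h1 : ∀ x ∈ X, ∀ k ∈ K, x * k * x⁻¹ ∈ K := by
    intro x hx k hk
    have h2 : (k : G) ∈ Y := hKY hk
    have h3 := hW (cpr hN hY ⟨x, hx⟩) _ ((hmem ⟨k, h2⟩).1 hk)
    rw [cpr_smul] at h3
    exact (hmem _).2 h3
  have h2 : X ≤ normalizer (K : Set G) := by
    intro x hx
    rw [mem_normalizer_iff]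
    intro k
    refine ⟨h1 x hx k, fun h => ?_⟩
    have h3 := h1 x⁻¹ (inv_mem hx) _ h
    rw [inv_inv] at h3
    have h4 : x⁻¹ * (x * k * x⁻¹) * x = k := by group
    rwa [h4] at h3
  have h3 : N ≤ K := by
    intro n hn
    refine (hmem ⟨n, hNY hn⟩).2 ?_
    have h4 : ((⟨n, hNY hn⟩ : Y) : Y ⧸ N.subgroupOf Y) = 1 :=
      (QuotientGroup.eq_one_iff _).2 (mem_subgroupOf.2 hn)
    rw [h4]
    exact one_mem _
  rcases chief K h3 hKY h2 with h4 | h4
  · left
    rw [eq_bot_iff]
    intro w hw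
    obtain ⟨y, rfl⟩ := QuotientGroup.mk_surjective w
    have h5 := (hmem y).2 hw
    rw [h4] at h5
    rw [mem_bot]
    exact (QuotientGroup.eq_one_iff _).2 (mem_subgroupOf.2 h5)
  · right
    rw [eq_top_iff]
    intro w _
    obtain ⟨y, rfl⟩ := QuotientGroup.mk_surjective w
    refine (hmem y).1 ?_
    rw [h4]
    exact y.2

/-- a factor not centralised by `O²(X)` -/
theorem codd (hc : Y ≤ centralizer (Y : Set G)) (hN : X ≤ normalizer (N : Set G)) (hY : X ≤ normalizer (Y : Set G))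
    (hmv : ¬ ⁅Y, oddGen X⁆ ≤ N) : FFBr.odd (CX hN hY) (Y ⧸ N.subgroupOf Y) ≠ ⊤ := by
  intro h1
  apply hmv
  have h2 : oddGen X ≤ (cpr hN hY).ker.map X.subtype := by
    rw [Cfsg.Agent.MinSimple.VModule.oddGen_def, closure_le]
    rintro x ⟨hx, ho⟩
    refine ⟨⟨x, hx⟩, ?_, rfl⟩
    rw [SetLike.mem_coe, MonoidHom.mem_ker]
    apply cfaith
    intro v
    have h3 : v ∈ FFBr.odd (CX hN hY) (Y ⧸ N.subgroupOf Y) := by rw [h1]; exact mem_top v
    refine h3 _ (Odd.of_dvd_nat ?_ (orderOf_map_dvd (cpr hN hY) (⟨x, hx⟩ : X)))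
    rwa [← orderOf_coe]
  rw [commutator_le]
  intro y hy g hg
  obtain ⟨k, hk, rfl⟩ := h2 hg
  exact (cpr_eq_one hc hN hY).1 (MonoidHom.mem_ker.1 hk) y hy

/-- **the abstract situation for a noncentral chief factor `Y / N`** -/
theorem cabs [Finite G] {T : Subgroup G} (hT : Syl T X) (hmin : IsMinPar T X) (hNY : N ≤ Y)
    (hsq : ∀ y ∈ Y, y ^ 2 = 1) (hc : Y ≤ centralizer (Y : Set G)) (hN : X ≤ normalizer (N : Set G))
    (hY : X ≤ normalizer (Y : Set G))
    (chief : ∀ K : Subgroup G, N ≤ K → K ≤ Y → X ≤ normalizer (K : Set G) → K = N ∨ K = Y)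
    (hmv : ¬ ⁅Y, oddGen X⁆ ≤ N) :
    ∃ (S : Sylow 2 (CX hN hY)) (M : Subgroup (CX hN hY)), FFBr.Abs (CX hN hY) (Y ⧸ N.subgroupOf Y) S M := by
  have hfact : Fact (Nat.Prime 2) := ⟨Nat.prime_two⟩
  obtain ⟨M, hM⟩ := hmin.exists_isMin
  obtain ⟨P, hP⟩ := syl_iff.1 hT
  have hTP : T.subgroupOf X = (P : Subgroup X) := by
    rw [← hP, Subgroup.subgroupOf, comap_map_eq_self_of_injective X.subtype_injective]
  rw [hTP] at hM
  refine ⟨_, _, abs_of_irr (cpr hN hY) (cpr_surjective hN hY) (cfaith hN hY) P M hM ?_ ?_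
    (cirr hN hY hNY chief) (codd hc hN hY hmv)⟩
  · intro v w
    obtain ⟨y, rfl⟩ := QuotientGroup.mk_surjective v
    obtain ⟨z, rfl⟩ := QuotientGroup.mk_surjective w
    have h1 : y * z = z * y := Subtype.ext (mem_centralizer_iff.1 (hc z.2) _ y.2)
    rw [← QuotientGroup.mk_mul, h1, QuotientGroup.mk_mul]
  · intro v
    obtain ⟨y, rfl⟩ := QuotientGroup.mk_surjective v
    have h1 : y * y = 1 := Subtype.ext (by
      have := hsq y y.2
      rw [sq] at this
      exact this)
    rw [← QuotientGroup.mk_mul, h1, QuotientGroup.mk_one]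

end quot

end Cfsg.Agent.Omega.NO3b.K0

end

section


/-!
# THEOREM K0: the bridge to the abstract FF theorem, part 2

* `cnoOver` : `|Ā| ≤ |V : C_V(Ā)|` for the elementary abelian 2-subgroups `Ā` in the situation `FFBr.Abs`;
* `noOv` : `FFBr.AStmt` implies `NoOv X` for a minimal parabolic `X`.
-/

set_option autoImplicit false

namespace Cfsg.Agent.Omega.NO3b.K0

open Subgroup Cfsg Cfsg.Agent.ZN Cfsg.Agent.ZN.ChoiceBase Cfsg.Agent.ZN.ChoiceSit
open Cfsg.Agent.MinSimple.MinParabolic (IsMinPar IsMin sup_eq_top_or_inf_le)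
open Cfsg.Agent.MinSimple.VModule (oddGen oddGen_le mem_oddGen le_normalizer_oddGen oddGen_le_of_sup)
open scoped commutatorElement

universe u

/-- no over-offenders, also if there are no offenders at all -/
theorem cnoOver (h : FFBr.AStmt.{u}) {X V : Type u} [Group X] [Finite X] [Group V] [Finite V]
    [MulDistribMulAction X V] {T : Sylow 2 X} {M : Subgroup X} (habs : FFBr.Abs X V T M) : FFBr.ANoOver X V := by
  by_cases h1 : ∃ A : Subgroup X, FFBr.AOff V A
  · exact (h X V T M habs h1).1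
  · intro A hc hs
    by_contra hcon
    rw [not_le] at hcon
    apply h1
    refine ⟨A, hc, hs, ?_, hcon.le⟩
    rintro rfl
    rw [card_bot] at hcon
    exact absurd (Nat.lt_one_iff.1 hcon) (FiniteIndex.index_ne_zero)

variable {G : Type u} [Group G] [Finite G] {X : Subgroup G}

/-- **(K0b), the weak form of the FF theorem gives `NoOv`** -/
theorem noOv (h : FFBr.AStmt.{u}) {T : Subgroup G} (hT : Syl T X) (hmin : IsMinPar T X) : NoOv X := by
  have hfact : Fact (Nat.Prime 2) := ⟨Nat.prime_two⟩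
  intro N Y A D hNY hYX hsq hc hN hY chief hmv hAX hA2 hAc hDY hDA
  have hn : (N.subgroupOf Y).Normal := normal_subgroupOf_of_le_normalizer (hYX.trans hN)
  obtain ⟨S, M, habs⟩ := cabs hT hmin hNY hsq hc hN hY chief hmv
  set K : Subgroup G := (cpr hN hY).ker.map X.subtype with hK
  have hKX : K ≤ X := map_subtype_le _
  have hmemK : ∀ x : X, (x : G) ∈ K ↔ cpr hN hY x = 1 := by
    intro x
    constructor
    · rintro ⟨x', hx', hxx⟩
      have : x' = x := Subtype.ext hxx
      rw [← this]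
      exact hx'
    · intro hx
      exact ⟨x, hx, rfl⟩
  -- `O₂(X)` acts trivially
  have ho2 : o2 X ≤ K := by
    have h1 : (pCore 2 X).map (cpr hN hY) = ⊥ :=
      habs.core _ (Normal.map inferInstance _ (cpr_surjective hN hY)) ((isPGroup_pCore 2).map _)
    exact map_mono ((map_eq_bot_iff (f := cpr hN hY) _).1 h1)
  have hKn : X ≤ normalizer (K : Set G) := by
    have key : ∀ x ∈ X, ∀ k ∈ K, x * k * x⁻¹ ∈ K := by
      intro x hx k hk
      have h1 := (hmemK ⟨k, hKX hk⟩).1 hk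
      refine (hmemK (⟨x, hx⟩ * ⟨k, hKX hk⟩ * ⟨x, hx⟩⁻¹)).2 ?_
      rw [map_mul, map_mul, map_inv, h1, mul_one, mul_inv_cancel]
    intro x hx
    rw [mem_normalizer_iff]
    intro k
    refine ⟨key x hx k, fun hk => ?_⟩
    have h3 := key x⁻¹ (inv_mem hx) _ hk
    rw [inv_inv] at h3
    have h4 : x⁻¹ * (x * k * x⁻¹) * x = k := by group
    rwa [h4] at h3
  -- `T ∩ K ≤ O₂(X)`
  have hKT : T ⊓ K ≤ o2 X := by
    rcases hmin.sup_eq_or_inf_le hT.2.1 (syl_not_dvd hT) hKX hKn with h1 | h1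
    · exfalso
      apply hmv
      have h2 : oddGen X ≤ K := oddGen_le_of_sup hKn h1.ge hT.1 hKX hT.2.1
      rw [commutator_le]
      intro y hy g hg
      exact (cpr_eq_one hc hN hY (x := ⟨g, hKX (h2 hg)⟩)).1 ((hmemK _).1 (h2 hg)) y hy
    · exact h1
  -- `A ∩ K ≤ O₂(X)`
  have hAK : A ⊓ K ≤ o2 X := by
    intro a ha
    have h1 : IsPGroup 2 (zpowers a) := by
      obtain ⟨n, hn⟩ := ChoiceSit.isPGroup_o2 X ⟨a ^ 2, hA2 a ha.1⟩
      have hn' : (a ^ 2) ^ 2 ^ n = 1 := congrArg Subtype.val hn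
      rw [← pow_mul, ← pow_succ'] at hn'
      intro z
      obtain ⟨z, hz⟩ := z
      obtain ⟨k, rfl⟩ := mem_zpowers_iff.1 hz
      refine ⟨n + 1, Subtype.ext ?_⟩
      show (a ^ k) ^ 2 ^ (n + 1) = 1
      rw [← zpow_natCast, ← zpow_mul, mul_comm, zpow_mul, zpow_natCast, hn', one_zpow]
    exact le_o2_of_inf hT hKn hKT h1 (zpowers_le.2 (hAX ha.1)) (zpowers_le.2 ha.2) (mem_zpowers a)
  -- the image of `A`
  set A' : Subgroup (CX hN hY) := (A.subgroupOf X).map (cpr hN hY) with hA'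
  have h1 : ∀ a ∈ A', ∀ b ∈ A', a * b = b * a := by
    rintro _ ⟨a, ha, rfl⟩ _ ⟨b, hb, rfl⟩
    have h2 : cpr hN hY (a * b * a⁻¹ * b⁻¹) = 1 :=
      (hmemK _).1 (ho2 (hAc a (mem_subgroupOf.1 ha) b (mem_subgroupOf.1 hb)))
    rw [map_mul, map_mul, map_mul, map_inv, map_inv, mul_inv_eq_one, mul_inv_eq_iff_eq_mul] at h2
    exact h2
  have h2 : ∀ a ∈ A', a * a = 1 := by
    rintro _ ⟨a, ha, rfl⟩
    have h2 : cpr hN hY (a ^ 2) = 1 := (hmemK _).1 (ho2 (hA2 a (mem_subgroupOf.1 ha)))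
    rwa [pow_two, map_mul] at h2
  have h3 := cnoOver h habs A' h1 h2
  -- `|A : A ∩ O₂(X)| ≤ |A'|`
  have h4 : (o2 X).relIndex A ≤ Nat.card A' := by
    have h5 : K.relIndex A = Nat.card A' := by
      have h6 : K.relIndex A = (cpr hN hY).ker.relIndex (A.subgroupOf X) := by
        have h7 := relIndex_map_map_of_injective (cpr hN hY).ker (A.subgroupOf X) X.subtype_injective
        rw [subgroupOf_map_subtype, inf_eq_left.2 hAX] at h7
        exact h7
      rw [h6, relIndex_ker]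
    rw [← h5, ← inf_relIndex_left A K]
    refine Nat.le_of_dvd (Nat.pos_of_ne_zero ?_) (relIndex_dvd_of_le_left A hAK)
    exact FiniteIndex.index_ne_zero (H := (A ⊓ K).subgroupOf A)
  -- `|V : C_V(A')| ≤ |Y : D|`
  have h5 : (ClassTwoFusion.Quad.cv (Y ⧸ N.subgroupOf Y) (A' : Set (CX hN hY))).index ≤ D.relIndex Y := by
    have h6 : (D.subgroupOf Y).map (QuotientGroup.mk' (N.subgroupOf Y)) ≤
        ClassTwoFusion.Quad.cv (Y ⧸ N.subgroupOf Y) (A' : Set (CX hN hY)) := by
      rintro _ ⟨y, hy, rfl⟩ _ ⟨a, ha, rfl⟩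
      exact (cpr_smul_eq_iff hc hN hY).2
        (hDA (commutator_mem_commutator (mem_subgroupOf.1 hy) (mem_subgroupOf.1 ha)))
    refine (index_antitone h6).trans (Nat.le_of_dvd (Nat.pos_of_ne_zero
      (FiniteIndex.index_ne_zero (H := D.subgroupOf Y))) ?_)
    exact index_map_dvd _ (QuotientGroup.mk'_surjective _)
  exact h4.trans (h3.trans h5)

end Cfsg.Agent.Omega.NO3b.K0

end
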