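import Cfsg.Agent.Mrg.Omega.NO3S.NotFF.Basic
import Cfsg.Agent.Mrg.Omega.NO3b.K0.Abs
import Cfsg.Agent.Mrg.Omega.NO3b.K0.FullOff
import Cfsg.Agent.Mrg.Omega.FF.GlobEnd

section


/-!
# The FF-LEMMA in general form (bb #16170 (a), on `K0.noOv`, `K0.fullOff`)

`X` a minimal parabolic over its Sylow 2-subgroup `T`, `Y` an elementary abelian normal subgroup of `X` centralised
by `O₂(X)`.

* `ff_lemma` : if `J(T) ≰ O₂(X)` and `O²(X)` centralises `C_Y(T)`, then `O²(X)` centralises `Y`;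
* `ff_lemma_zc` : `J(T) ≰ O₂(X)`, `X ≤ C_G(Ω₁Z(T))` ⟹ `O²(X)` centralises `Ω₁Z(O₂(X))`;
* `ff_lemma_syl` : the same with `S` a Sylow 2-subgroup of `G`.
-/

set_option autoImplicit false

namespace Cfsg.Agent.Omega.NO3b.K0

open Subgroup Cfsg Cfsg.Agent.ZN Cfsg.Agent.ZN.ChoiceBase Cfsg.Agent.ZN.ChoiceSit
open Cfsg.Agent.MinSimple.MinParabolic (IsMinPar)
open Cfsg.Agent.MinSimple.VModule (oddGen oddGen_le mem_oddGen le_normalizer_oddGen oddGen_le_of_sup)
open Cfsg.Agent.Omega.NO3b.EZero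
open Cfsg.Agent.Omega.NO3S.NotFF (commutator_le_of_odd le_centralizer_of_commutator commutator_commutator_eq
  normalizer_commutator le_normalizer_bot)
open scoped commutatorElement

universe u

variable {G : Type u} [Group G] [Finite G]

omit [Finite G] in
theorem relIndex_mul_card' {H K : Subgroup G} (h : H ≤ K) : H.relIndex K * Nat.card H = Nat.card K := by
  have h1 := relIndex_mul_relIndex (⊥ : Subgroup G) H K bot_le h
  rwa [relIndex_bot_left, relIndex_bot_left, mul_comm] at h1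

/-- **FF-LEMMA.** -/
theorem ff_lemma (hA : FFBr.AStmt.{u}) {T X Y : Subgroup G} (hT : Syl T X) (hmin : IsMinPar T X)
    (hJ : ¬ jj T ≤ o2 X) (hYX : Y ≤ X) (hsq : ∀ y ∈ Y, y ^ 2 = 1) (hcom : Y ≤ centralizer (Y : Set G))
    (hN : X ≤ normalizer (Y : Set G)) (hQ : o2 X ≤ centralizer (Y : Set G))
    (hfix : Y ⊓ centralizer (T : Set G) ≤ centralizer (oddGen X : Set G)) :
    Y ≤ centralizer (oddGen X : Set G) := by
  by_contra hne
  have hNo := noOv hA hT hmin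
  have hFO := fullOff hA hT hmin
  have hYP : IsPGroup 2 Y := fun x => ⟨1, Subtype.ext (by simpa using hsq x x.2)⟩
  have hEX : oddGen X ≤ X := oddGen_le X
  -- `A ∈ A(T)` not in `O₂(X)`
  obtain ⟨A, hAA, hAQ⟩ : ∃ A ∈ AA T, ¬ A ≤ o2 X := by
    by_contra hcon
    push Not at hcon
    apply hJ
    rw [jj_eq]
    exact sSup_le hcon
  have hAT := hAA.2.1
  have hAX : A ≤ X := hAT.trans hT.1
  have hYT : Y ≤ T := (MinSimple.VModule.le_o2 hYX hYP hN).trans (o2_le_syl hT)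
  have hAsq : ∀ a ∈ A, a ^ 2 ∈ o2 X := fun a ha => by
    rw [hAA.1.2 a ha]; exact one_mem _
  have hAcc : ∀ a ∈ A, ∀ b ∈ A, a * b * a⁻¹ * b⁻¹ ∈ o2 X := fun a ha b hb => by
    have e : a * b = b * a := congrArg (fun t : A => (t : G)) (hAA.1.1.is_comm.comm ⟨a, ha⟩ ⟨b, hb⟩)
    rw [e, mul_inv_cancel_right, mul_inv_cancel]; exact one_mem _
  -- the offender inequality
  have hel : IsElementaryAbelian 2 Y :=
    ⟨⟨⟨fun a b => Subtype.ext (mem_centralizer_iff.1 (hcom b.2) a a.2)⟩⟩, fun a ha => hsq a ha⟩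
  have hXY : X ≤ normalizer ((X ⊓ centralizer (Y : Set G) : Subgroup G) : Set G) := le_normalizer_inf_cent hN
  have hTC : T ⊓ centralizer (Y : Set G) ≤ o2 X := by
    rcases min_or hT hmin (K := X ⊓ centralizer (Y : Set G)) inf_le_left hXY with h1 | h1
    · exact absurd (cent_symm (h1.trans inf_le_right)) hne
    · exact (le_inf inf_le_left (le_inf (inf_le_left.trans hT.1) inf_le_right)).trans h1
  have hAY : ¬ A ≤ centralizer (Y : Set G) := fun h0 => hAQ ((le_inf hAT h0).trans hTC)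
  have hoff := (FFThm.off_of_AA hel hYT hAA hAY).le
  have e1 : A ⊓ centralizer (Y : Set G) = A ⊓ o2 X :=
    le_antisymm (le_inf inf_le_left ((le_inf (inf_le_left.trans hAT) inf_le_right).trans hTC))
      (inf_le_inf_left A hQ)
  rw [e1] at hoff
  set i := (o2 X).relIndex A with hi
  have hi2 : 2 ≤ i := two_le_of_ne hAQ
  have e2 : i * Nat.card ↥(A ⊓ o2 X) = Nat.card A := by
    rw [hi, ← inf_relIndex_left]
    exact relIndex_mul_card' inf_le_left
  have e3 : (centralizer (A : Set G)).relIndex Y * Nat.card ↥(Y ⊓ centralizer (A : Set G)) = Nat.card Y := by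
    rw [← inf_relIndex_left]
    exact relIndex_mul_card' inf_le_left
  have hcY : (centralizer (A : Set G)).relIndex Y ≤ i := by
    rw [← e2, ← e3] at hoff
    have h1 : 0 < Nat.card ↥(A ⊓ o2 X) := Nat.card_pos
    have h2 : 0 < Nat.card ↥(Y ⊓ centralizer (A : Set G)) := Nat.card_pos
    by_contra hcon
    rw [not_le] at hcon
    have h3 := Nat.mul_lt_mul_of_pos_right hcon (Nat.mul_pos h1 h2)
    rw [← mul_assoc, ← mul_assoc] at h3
    have h4 : (centralizer (A : Set G)).relIndex Y * Nat.card ↥(A ⊓ o2 X) *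
        Nat.card ↥(Y ⊓ centralizer (A : Set G)) =
        (centralizer (A : Set G)).relIndex Y * Nat.card ↥(Y ⊓ centralizer (A : Set G)) *
          Nat.card ↥(A ⊓ o2 X) := by ring
    rw [h4] at h3
    exact absurd hoff (not_le.2 h3)
  -- `Y₁ = [Y, O²(X)]`
  set Y₁ : Subgroup G := ⁅Y, oddGen X⁆ with hY₁
  have hY₁Y : Y₁ ≤ Y := CTwo.Sit.commutator_le_of_norm (hEX.trans hN)
  have hXY₁ : X ≤ normalizer (Y₁ : Set G) := normalizer_commutator hN (le_normalizer_oddGen X)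
  have hYE : ⁅Y₁, oddGen X⁆ = Y₁ := commutator_commutator_eq (oddGen_oddGen X) hYP (hEX.trans hN)
    (hYX.trans (le_normalizer_oddGen X))
  have hY₁ne : Y₁ ≠ ⊥ := fun h0 => hne (commutator_eq_bot_iff_le_centralizer.1 h0)
  have hc₁ : (centralizer (A : Set G)).relIndex Y₁ ≤ i :=
    (relIndex_le_of_le_right hY₁Y index_ne_zero_of_finite).trans hcY
  have hsq₁ : ∀ y ∈ Y₁, y ^ 2 = 1 := fun y hy => hsq y (hY₁Y hy)
  have hcom₁ : Y₁ ≤ centralizer (Y₁ : Set G) := hY₁Y.trans (hcom.trans (centralizer_le hY₁Y))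
  have hirr : ∀ K : Subgroup G, K ≤ Y₁ → X ≤ normalizer (K : Set G) → K ≠ Y₁ →
      K ≤ centralizer (oddGen X : Set G) := by
    intro K hK hXK hKne
    by_contra hE'
    have h1 := hNo.two hK (hY₁Y.trans hYX) hsq₁ hcom₁ hXK hXY₁
      (by rw [hYE]; exact fun h0 => hKne (le_antisymm hK h0)) hE' hAX hAsq hAcc
    have h2 : i * i ≤ i := h1.trans hc₁
    nlinarith
  -- the full preimage
  set N₀ : Subgroup G := Y₁ ⊓ centralizer (oddGen X : Set G) with hN₀
  have hXc : X ≤ normalizer ((centralizer (oddGen X : Set G) : Subgroup G) : Set G) := by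
    intro x hx
    rw [mem_normalizer_iff_cj, cj_centralizer, mem_normalizer_iff_cj.1 (le_normalizer_oddGen X hx)]
  have hXN₀ : X ≤ normalizer (N₀ : Set G) := by
    intro a ha
    rw [mem_normalizer_iff_cj, cj_inf, cj_of_le hXY₁ ha, cj_of_le hXc ha]
  have hYX₁ : Y₁ ≤ X := hY₁Y.trans hYX
  have cjm : ∀ y ∈ Y₁, ∀ n ∈ N₀, y * n * y⁻¹ ∈ N₀ := fun y hy n hn =>
    (mem_normalizer_iff.1 (hXN₀ (hYX₁ hy)) n).1 hn
  let D : Subgroup G :=
    { carrier := {y | y ∈ Y₁ ∧ ∀ a ∈ A, ⁅y, a⁆ ∈ N₀}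
      one_mem' := ⟨one_mem _, fun a _ => by rw [commutatorElement_one_left]; exact one_mem _⟩
      mul_mem' := by
        rintro y y' ⟨hy, hya⟩ ⟨hy', hya'⟩
        refine ⟨mul_mem hy hy', fun a ha => ?_⟩
        have e : ⁅y * y', a⁆ = (y * ⁅y', a⁆ * y⁻¹) * ⁅y, a⁆ := by
          simp only [commutatorElement_def]; group
        rw [e]
        exact mul_mem (cjm y hy _ (hya' a ha)) (hya a ha)
      inv_mem' := by
        rintro y ⟨hy, hya⟩
        refine ⟨inv_mem hy, fun a ha => ?_⟩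
        have e : ⁅y⁻¹, a⁆ = y⁻¹ * (⁅y, a⁆)⁻¹ * (y⁻¹)⁻¹ := by
          simp only [commutatorElement_def]; group
        rw [e]
        exact cjm _ (inv_mem hy) _ (inv_mem (hya a ha)) }
  have hDY : D ≤ Y₁ := fun y hy => hy.1
  have hDA : ⁅D, A⁆ ≤ N₀ := by
    rw [commutator_le]
    exact fun y hy a ha => hy.2 a ha
  have h5 : i ≤ D.relIndex Y₁ := hNo.gen (N := N₀) inf_le_left hYX₁ hsq₁ hcom₁ hXN₀ hXY₁ (by
    rw [hYE]
    intro h0
    apply hY₁ne
    rw [← hYE]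
    exact commutator_eq_bot_iff_le_centralizer.2 (h0.trans inf_le_right)) hAX hAsq hAcc hDY hDA
  have hCD : centralizer (A : Set G) ⊓ Y₁ ≤ D := by
    rintro y ⟨hy1, hy2⟩
    refine ⟨hy2, fun a ha => ?_⟩
    have e : ⁅y, a⁆ = 1 := by
      rw [commutatorElement_eq_one_iff_mul_comm]
      exact (mem_centralizer_iff.1 hy1 a ha).symm
    rw [e]; exact one_mem _
  have h6 := relIndex_mul_relIndex (centralizer (A : Set G) ⊓ Y₁) D Y₁ hCD hDY
  have h7 : (centralizer (A : Set G) ⊓ Y₁).relIndex Y₁ = (centralizer (A : Set G)).relIndex Y₁ :=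
    inf_relIndex_right _ _
  rw [h7] at h6
  have h8 : 0 < (centralizer (A : Set G) ⊓ Y₁).relIndex D := Nat.pos_of_ne_zero index_ne_zero_of_finite
  have h9 : (centralizer (A : Set G) ⊓ Y₁).relIndex D = 1 := by
    have h10 : (centralizer (A : Set G) ⊓ Y₁).relIndex D * D.relIndex Y₁ ≤ 1 * D.relIndex Y₁ := by
      rw [h6, one_mul]; exact hc₁.trans h5
    have h11 : 0 < D.relIndex Y₁ := lt_of_lt_of_le (by omega) h5
    have h12 := Nat.le_of_mul_le_mul_right h10 h11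
    omega
  have hDC : D ≤ centralizer (A : Set G) ⊓ Y₁ := relIndex_eq_one.1 h9
  have hidx : i = (centralizer (A : Set G)).relIndex Y₁ := by
    refine le_antisymm ?_ hc₁
    rw [← h6, h9, one_mul]
    exact h5
  obtain ⟨y, hy, hyT, hyE⟩ := hFO Y₁ A hYX₁ hsq₁ hcom₁ hXY₁ (hQ.trans (centralizer_le hY₁Y)) hYE hY₁ne hirr hAT
    hAsq hAcc hAQ (fun y hy h => (hDC ⟨hy, fun a ha => ⟨(by
      have h1 := hXY₁ (hAX ha)
      have h2 := (mem_normalizer_iff.1 h1 y⁻¹).1 (inv_mem hy)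
      have e : ⁅y, a⁆ = y * (a * y⁻¹ * a⁻¹) := by simp only [commutatorElement_def]; group
      rw [e]
      exact mul_mem hy h2), h a ha⟩⟩).1) hidx
  exact hyE (hfix ⟨hY₁Y hy, hyT⟩)

/-- `X` centralises `Ω₁Z(T)`. -/
theorem ff_lemma_zc (hA : FFBr.AStmt.{u}) {T X : Subgroup G} (hT : Syl T X) (hmin : IsMinPar T X)
    (hJ : ¬ jj T ≤ o2 X) (hZ : X ≤ centralizer (zc T : Set G)) :
    zc (o2 X) ≤ centralizer (oddGen X : Set G) := by
  refine ff_lemma hA hT hmin hJ ((ZN.zc_le _).trans (ChoiceSit.o2_le X)) (fun y hy => ZN.zc_sq hy)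
    ((zc_le_centralizer _).trans (centralizer_le (ZN.zc_le _)))
    ((ZN.le_normalizer_o2 X).trans (normalizer_le_normalizer_zc _)) (le_centralizer_zc _) ?_
  rintro y ⟨hy, hyT⟩
  have h1 : y ∈ zc T := mem_zc.2 ⟨o2_le_syl hT (ZN.zc_le _ hy), fun b hb => mem_centralizer_iff.1 hyT b hb,
    ZN.zc_sq hy⟩
  rw [mem_centralizer_iff]
  intro x hx
  exact (mem_centralizer_iff.1 (hZ (oddGen_le X hx)) y h1).symm

/-- The form used in the leaves of OMEGA: `S` a Sylow 2-subgroup of `G`, `X ∈ P(S)`, `X ≤ C_G(Ω₁Z(S))`. -/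
theorem ff_lemma_syl {S : Sylow 2 G} {X : Subgroup G} (hmin : IsMinPar (S : Subgroup G) X)
    (hJ : ¬ jj (S : Subgroup G) ≤ o2 X) (hZ : X ≤ centralizer (zc (S : Subgroup G) : Set G)) :
    zc (o2 X) ≤ centralizer (oddGen X : Set G) :=
  ff_lemma_zc FF.Glob.aStmt ⟨hmin.le, S.isPGroup', fun _ _ hT hST => S.is_maximal' hT hST⟩ hmin hJ hZ

end Cfsg.Agent.Omega.NO3b.K0

end

section


/-!
# THEOREM K0: the instance of the abstract situation (leaf 3b-E)

`base_of` : `Hyp S V`, `Flat S V F T`, `Par V F T P` give `Base V F T P L₀ Q₀`, `Q₀ = C_S(V)`, `L₀ = N_G(Q₀)`.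
-/

set_option autoImplicit false

namespace Cfsg.Agent.Omega.NO3b.K0

open Subgroup Cfsg Cfsg.Agent.ZN Cfsg.Agent.ZN.ChoiceBase Cfsg.Agent.ZN.ChoiceSit
open Cfsg.Agent.Omega.NO3b.EZero

universe u

variable {G : Type u} [Group G] [Finite G] {S : Sylow 2 G} {V F T P : Subgroup G}

theorem base_of (h : Hyp S V) (f : Flat S V F T) (p : Par V F T P) :
    Base V F T P (normalizer (((S : Subgroup G) ⊓ centralizer (V : Set G) : Subgroup G) : Set G))
      ((S : Subgroup G) ⊓ centralizer (V : Set G)) where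
  sq := h.sq
  comm := h.comm
  nff := h.nff
  F_le := f.F_le
  F_ne := f.F_ne_V
  F_ne_bot := f.ne_bot h
  X_le := p.le
  syl := p.syl f
  mp := p.isMinPar f h
  nle := p.nle
  T_le := f.T_le.trans h.S_le_L0
  L_le := h.L0_le_L
  Q0_le := f.Q0_le
  L_Q0 := le_rfl
  Q0_cent := inf_le_right
  le_Q0 := fun _ hR h1 h2 => h.le_Q0 hR h1 h2
  V_le := h.V_le_Q0
  line := fun _ hx hxV => p.inf_line f hx hxV
  ti := fun _ hD => h.comm_of_inter' hD
  nonloc := fun _ hR h1 h2 => p.nonloc h hR h1 h2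

end Cfsg.Agent.Omega.NO3b.K0

end
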