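import Cfsg.Agent.Mrg.Omega.NO3b.K0.One


/-!
# THEOREM K0, part 6: the theorem

`Base.absurd` : `Base V F T X L Q0`, `NoOv X`, `FullOff T X` and `C_U(T) ≤ C(O²(X))` are contradictory.
-/

set_option autoImplicit false

namespace Cfsg.Agent.Omega.NO3b.K0

open Subgroup Cfsg Cfsg.Agent.ZN Cfsg.Agent.ZN.ChoiceBase Cfsg.Agent.ZN.ChoiceSit
open Cfsg.Agent.MinSimple.MinParabolic (IsMinPar)
open Cfsg.Agent.MinSimple.VModule (oddGen oddGen_le mem_oddGen le_normalizer_oddGen oddGen_le_of_sup)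
open Cfsg.Agent.Omega.NO3b.EZero
open scoped commutatorElement

universe u

variable {G : Type u} [Group G] {V F T X L Q0 : Subgroup G}

/-- `[U, E'] ≤ F` passes from `E'` to `⟨E'^X⟩` -/
theorem Base.comm_cl (h : Base V F T X L Q0) {E' : Subgroup G} (hX : E' ≤ X)
    (hE' : ∀ u ∈ cl V X, ∀ e ∈ E', ⁅u, e⁆ ∈ F) : ∀ u ∈ cl V X, ∀ k ∈ cl E' X, ⁅u, k⁆ ∈ F := by
  let K : Subgroup G :=
    { carrier := {k | k ∈ X ∧ ∀ u ∈ cl V X, ⁅u, k⁆ ∈ F}
      one_mem' := ⟨one_mem _, fun u _ => by rw [commutatorElement_one_right]; exact one_mem _⟩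
      mul_mem' := by
        rintro a b ⟨ha, ha'⟩ ⟨hb, hb'⟩
        refine ⟨mul_mem ha hb, fun u hu => ?_⟩
        have e1 : ⁅u, a * b⁆ = ⁅u, a⁆ * (a * ⁅u, b⁆ * a⁻¹) := by
          simp only [commutatorElement_def]; group
        have h1 := mem_centralizer_iff.1 (h.X_le ha) _ (hb' u hu)
        rw [e1, ← h1, mul_inv_cancel_right]
        exact mul_mem (ha' u hu) (hb' u hu)
      inv_mem' := by
        rintro a ⟨ha, ha'⟩
        refine ⟨inv_mem ha, fun u hu => ?_⟩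
        have e1 : ⁅u, a⁻¹⁆ = a⁻¹ * ⁅u, a⁆⁻¹ * a := by
          simp only [commutatorElement_def]; group
        have h1 := mem_centralizer_iff.1 (h.X_le (inv_mem ha)) _ (inv_mem (ha' u hu))
        rw [e1, ← h1, mul_assoc, inv_mul_cancel, mul_one]
        exact inv_mem (ha' u hu) }
  have key : cl E' X ≤ K := by
    refine cl_le fun x hx e he => ⟨?_, fun u hu => ?_⟩
    · have h1 := cj_mono x hX he
      rwa [cj_self hx] at h1
    · have h1 := hE' (x⁻¹ * u * x) (by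
        have := conj_mem' (le_normalizer_cl V X) (inv_mem hx) hu
        rwa [inv_inv] at this) _ (mem_cj.1 he)
      have h2 := mem_centralizer_iff.1 (h.X_le hx) _ h1
      have e1 : ⁅u, e⁆ = x * ⁅x⁻¹ * u * x, x⁻¹ * e * x⁆ * x⁻¹ := by
        simp only [commutatorElement_def]; group
      rw [e1, ← h2, mul_inv_cancel_right]
      exact h1
  exact fun u hu k hk => (key hk).2 u hu

namespace Crit

variable {g : G} (c : Crit V X Q0 g) (h : Base V F T X L Q0)
include c h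

variable [Finite G]

/-- `[U₀, U^g ∩ Q] = 1` -/
theorem comm_U0 (hX : NoOv X) {u e : G} (hu : u ∈ (⁅cl V X, oddGen X⁆ : Subgroup G))
    (he : e ∈ cj g (cl V X)) (heQ : e ∈ o2 X) : u * e = e * u := by
  have h1 : cl (cj g (cl V X) ⊓ o2 X) X ≤ o2 X := by
    refine cl_le fun x hx => ?_
    have h2 := cj_mono x (inf_le_right : cj g (cl V X) ⊓ o2 X ≤ o2 X)
    rwa [cj_of_le (ChoiceSit.le_normalizer_o2 X) hx] at h2
  have h2 := h.dual hX h1 (le_normalizer_cl _ _) (h.comm_cl (inf_le_right.trans (ChoiceSit.o2_le X))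
    fun u hu e he => c.comm_mem h hu he.1 he.2)
  rw [commutator_eq_bot_iff_le_centralizer] at h2
  exact (mem_centralizer_iff.1 (h2 hu) e (le_cl _ _ ⟨he, heQ⟩)).symm

/-- **Step 5**: `[U ∩ Q^g, U^g] = 1` -/
theorem comm_E_U (hX : NoOv X) : cl V X ⊓ cj g (o2 X) ≤ centralizer ((cj g (cl V X) : Subgroup G) : Set G) := by
  have h1 : cj g (cl V X) ≤ cj g V ⊔ cj g ⁅cl V X, oddGen X⁆ := by
    have h2 := cj_mono g (h.sit hX).le_sup
    rwa [show cj g (V ⊔ ⁅cl V X, oddGen X⁆) = cj g V ⊔ cj g ⁅cl V X, oddGen X⁆ from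
      Subgroup.map_sup _ _ _] at h2
  refine cent_symm (h1.trans (sup_le ?_ ?_))
  · refine cent_symm ((inf_le_left.trans c.le1).trans (cj_cent h.Q0_cent))
  · intro w hw
    rw [mem_centralizer_iff]
    rintro u ⟨hu1, hu2⟩
    have h3 := c.inv.comm_U0 h hX (mem_cj.1 hw) (e := g⁻¹ * u * g) (by
      rw [mem_cj, inv_inv]
      have e1 : g * (g⁻¹ * u * g) * g⁻¹ = u := by group
      rwa [e1]) (mem_cj.1 hu2)
    calc u * w = g * ((g⁻¹ * u * g) * (g⁻¹ * w * g)) * g⁻¹ := by group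
      _ = g * ((g⁻¹ * w * g) * (g⁻¹ * u * g)) * g⁻¹ := by rw [h3]
      _ = w * u := by group

/-- `|U : C_U(U^g)| = |U : U ∩ Q^g|` -/
theorem index_U (hX : NoOv X) : (centralizer ((cj g (cl V X) : Subgroup G) : Set G)).relIndex (cl V X) =
    (cj g (o2 X)).relIndex (cl V X) := by
  rw [← c.index_eq h, relIndex_eq_one.2 (c.comm_E_U h hX), one_mul]

omit [Finite G] in
theorem sq_U' : ∀ a ∈ cj g (cl V X), a ^ 2 = 1 := by
  intro v hv
  have h1 := h.U_sq _ (mem_cj.1 hv)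
  have e : v ^ 2 = g * (g⁻¹ * v * g) ^ 2 * g⁻¹ := by rw [pow_two, pow_two]; group
  rw [e, h1]; group

omit [Finite G] in
theorem comm_U' : ∀ a ∈ cj g (cl V X), ∀ b ∈ cj g (cl V X), a * b * a⁻¹ * b⁻¹ = 1 := by
  intro a ha b hb
  have e : a * b = b * a := (mem_centralizer_iff.1 (cj_cent (g := g) h.U_comm ha) b hb).symm
  rw [e, mul_inv_cancel_right, mul_inv_cancel]

/-- `|U^g : U^g ∩ Q| ≤ |U₀ : D|` for `[D, U^g] ≤ C(O²(X))` -/
theorem index_le (hX : NoOv X) {D : Subgroup G} (hD : D ≤ ⁅cl V X, oddGen X⁆)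
    (hDU : ⁅D, cj g (cl V X)⁆ ≤ ⁅cl V X, oddGen X⁆ ⊓ centralizer (oddGen X : Set G)) :
    (o2 X).relIndex (cj g (cl V X)) ≤ D.relIndex ⁅cl V X, oddGen X⁆ := by
  have hU0 := Base.U0_le (V := V) (X := X)
  refine hX.gen inf_le_left (hU0.trans h.U_le_X) (fun y hy => h.U_sq y (hU0 hy))
    (hU0.trans (h.U_comm.trans (centralizer_le hU0))) ?_ Base.X_norm_U0 ?_ (c.le_X h)
    (fun a ha => by rw [c.sq_U' h a ha]; exact one_mem _)
    (fun a ha b hb => by rw [c.comm_U' h a ha b hb]; exact one_mem _) hD hDU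
  · exact CTwo.Sit.norm_inf_cent Base.X_norm_U0 (le_normalizer_oddGen X)
  · rw [h.U0_comm]
    intro h0
    apply h.U_not_cent
    refine NO3S.NotFF.le_centralizer_of_commutator (oddGen_oddGen X) h.isPGroup_U
      ((oddGen_le X).trans (le_normalizer_cl V X)) (h0.trans inf_le_right)

theorem index_le' (hX : NoOv X) : (o2 X).relIndex (cj g (cl V X)) ≤
    (centralizer ((cj g (cl V X) : Subgroup G) : Set G)).relIndex ⁅cl V X, oddGen X⁆ := by
  have h1 := c.index_le h hX (D := centralizer ((cj g (cl V X) : Subgroup G) : Set G) ⊓ ⁅cl V X, oddGen X⁆)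
    inf_le_right (by
      have h2 : (⁅centralizer ((cj g (cl V X) : Subgroup G) : Set G) ⊓ ⁅cl V X, oddGen X⁆,
          cj g (cl V X)⁆ : Subgroup G) = ⊥ :=
        commutator_eq_bot_iff_le_centralizer.2 inf_le_left
      rw [h2]; exact bot_le)
  rwa [inf_relIndex_right] at h1

/-- `|U^g : U^g ∩ Q| = |U₀ : C_{U₀}(U^g)|` -/
theorem index (hX : NoOv X) : (o2 X).relIndex (cj g (cl V X)) =
    (centralizer ((cj g (cl V X) : Subgroup G) : Set G)).relIndex ⁅cl V X, oddGen X⁆ := by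
  have key : ∀ g, Crit V X Q0 g → (centralizer ((cj g (cl V X) : Subgroup G) : Set G)).relIndex
      ⁅cl V X, oddGen X⁆ ≤ (cj g (o2 X)).relIndex (cl V X) := by
    intro g c
    rw [← c.index_U h hX]
    exact relIndex_le_of_le_right (Base.U0_le (V := V) (X := X)) index_ne_zero_of_finite
  have h1 := c.index_le' h hX
  have h2 := key g c
  have h3 := c.inv.index_le' h hX
  have h4 := key g⁻¹ c.inv
  have e1 : (o2 X).relIndex (cj g⁻¹ (cl V X)) = (cj g (o2 X)).relIndex (cl V X) := by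
    rw [← relIndex_cj g, cj_cj_inv]
  have e2 : (cj g⁻¹ (o2 X)).relIndex (cl V X) = (o2 X).relIndex (cj g (cl V X)) := by
    rw [← relIndex_cj g, cj_cj_inv]
  rw [e1] at h3
  rw [e2] at h4
  omega

/-- `C_{U₀}(U^g)` is the full preimage of `C_{U₀ / C}(U^g)`, `C = C_{U₀}(O²(X))` -/
theorem full (hX : NoOv X) {y : G} (hy : y ∈ (⁅cl V X, oddGen X⁆ : Subgroup G))
    (hya : ∀ a ∈ cj g (cl V X), ⁅y, a⁆ ∈ centralizer (oddGen X : Set G)) :
    y ∈ centralizer ((cj g (cl V X) : Subgroup G) : Set G) := by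
  have hU0 := Base.U0_le (V := V) (X := X)
  have hab : ∀ a ∈ (⁅cl V X, oddGen X⁆ : Subgroup G), ∀ b ∈ (⁅cl V X, oddGen X⁆ : Subgroup G),
      a * b = b * a := fun a ha b hb => (mem_centralizer_iff.1 (h.U_comm (hU0 ha)) b (hU0 hb)).symm
  have hcm : ∀ y ∈ (⁅cl V X, oddGen X⁆ : Subgroup G), ∀ a ∈ cj g (cl V X),
      ⁅y, a⁆ ∈ (⁅cl V X, oddGen X⁆ : Subgroup G) := by
    intro y hy a ha
    have e1 : ⁅y, a⁆ = y * (a * y⁻¹ * a⁻¹) := by simp only [commutatorElement_def]; group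
    rw [e1]
    exact mul_mem hy (conj_mem' Base.X_norm_U0 (c.le_X h ha) (inv_mem hy))
  let D : Subgroup G :=
    { carrier := {y | y ∈ (⁅cl V X, oddGen X⁆ : Subgroup G) ∧
        ∀ a ∈ cj g (cl V X), ⁅y, a⁆ ∈ centralizer (oddGen X : Set G)}
      one_mem' := ⟨one_mem _, fun a _ => by rw [commutatorElement_one_left]; exact one_mem _⟩
      mul_mem' := by
        rintro x y ⟨hx, hx'⟩ ⟨hy, hy'⟩
        refine ⟨mul_mem hx hy, fun a ha => ?_⟩
        have e1 : ⁅x * y, a⁆ = (x * ⁅y, a⁆ * x⁻¹) * ⁅x, a⁆ := by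
          simp only [commutatorElement_def]; group
        rw [e1, hab x hx _ (hcm y hy a ha), mul_inv_cancel_right]
        exact mul_mem (hy' a ha) (hx' a ha)
      inv_mem' := by
        rintro x ⟨hx, hx'⟩
        have e1 : x⁻¹ = x := inv_eq_of_mul_eq_one_left (by
          have := h.U_sq x (hU0 hx)
          rwa [pow_two] at this)
        rw [e1]
        exact ⟨hx, hx'⟩ }
  have hD : D ≤ ⁅cl V X, oddGen X⁆ := fun y hy => hy.1
  have h1 := c.index_le h hX hD (by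
    rw [commutator_le]
    exact fun y hy a ha => ⟨hcm y hy.1 a ha, hy.2 a ha⟩)
  rw [c.index h hX] at h1
  -- `C_{U₀}(U^g) ≤ D` of the same index
  have h2 : centralizer ((cj g (cl V X) : Subgroup G) : Set G) ⊓ ⁅cl V X, oddGen X⁆ ≤ D := by
    rintro y ⟨hy1, hy2⟩
    refine ⟨hy2, fun a ha => ?_⟩
    have h3 : ⁅y, a⁆ = 1 := by
      rw [commutatorElement_eq_one_iff_mul_comm]
      exact (mem_centralizer_iff.1 hy1 a ha).symm
    rw [h3]; exact one_mem _
  have h3 := relIndex_mul_relIndex _ D _ h2 hD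
  rw [inf_relIndex_right] at h3
  have h4 : 0 < D.relIndex ⁅cl V X, oddGen X⁆ := Nat.pos_of_ne_zero index_ne_zero_of_finite
  have h5 : (centralizer ((cj g (cl V X) : Subgroup G) : Set G) ⊓ ⁅cl V X, oddGen X⁆).relIndex D = 1 := by
    have h6 : (centralizer ((cj g (cl V X) : Subgroup G) : Set G) ⊓ ⁅cl V X, oddGen X⁆).relIndex D ≠ 0 :=
      index_ne_zero_of_finite
    nlinarith [Nat.pos_of_ne_zero h6]
  exact ((relIndex_eq_one.1 h5) ⟨hy, hya⟩ : _ ∈ _ ⊓ _).1

end Crit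

/-- **THEOREM K0**, abstract form. -/
theorem Base.absurd [Finite G] (h : Base V F T X L Q0) (hX : NoOv X) (hF : FullOff T X)
    (hT : cl V X ⊓ centralizer (T : Set G) ≤ centralizer (oddGen X : Set G)) : False := by
  obtain ⟨g, c⟩ := h.exists_crit
  have hU0 := Base.U0_le (V := V) (X := X)
  have hQ : o2 X ≤ centralizer ((⁅cl V X, oddGen X⁆ : Subgroup G) : Set G) := by
    have h1 := h.dual hX le_rfl (ChoiceSit.le_normalizer_o2 X) fun u hu k hk => h.comm_Q hX hu hk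
    rw [commutator_eq_bot_iff_le_centralizer] at h1
    exact cent_symm h1
  obtain ⟨y, hy, hyT, hyE⟩ := hF ⁅cl V X, oddGen X⁆ (cj g (cl V X)) (hU0.trans h.U_le_X)
    (fun y hy => h.U_sq y (hU0 hy)) (hU0.trans (h.U_comm.trans (centralizer_le hU0))) Base.X_norm_U0 hQ
    h.U0_comm (fun h0 => h.U_not_cent (commutator_eq_bot_iff_le_centralizer.1 h0))
    (fun K hK hXK hne => h.one hX hK hXK hne) (c.le_T h)
    (fun a ha => by rw [c.sq_U' h a ha]; exact one_mem _)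
    (fun a ha b hb => by rw [c.comm_U' h a ha b hb]; exact one_mem _)
    (fun h0 => c.inv.nle h (by
      have h1 := cj_mono g⁻¹ h0
      rwa [cj_inv_cj] at h1))
    (fun y hy hya => c.full h hX hy hya) (c.index h hX)
  exact hyE (hT ⟨hU0 hy, hyT⟩)

end Cfsg.Agent.Omega.NO3b.K0
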